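import Mathlib.CategoryTheory.Adjunction.Basic
import Mathlib.CategoryTheory.ObjectProperty.FullSubcategory
import Mathlib.CategoryTheory.EssentialImage
import Mathlib.CategoryTheory.Equivalence

/-!
# Restricting a left adjoint to an essential image
-/

set_option autoImplicit false

universe v₁ v₂ v₃ u₁ u₂ u₃

open CategoryTheory

namespace Groth.Agent.K477.AdjEss

variable {A : Type u₁} [Category.{v₁} A] {D : Type u₂} [Category.{v₂} D] {T : Type u₃} [Category.{v₃} T]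

/-- If `S : A ⥤ D` is fully faithful with essential image `Q` and `S ⋙ R` is a left adjoint, then so is `Q.ι ⋙ R`. -/
theorem isLeftAdjoint (S : A ⥤ D) [S.Full] [S.Faithful] (Q : ObjectProperty D) (hQ : ∀ G, S.essImage G ↔ Q G)
    (R : D ⥤ T) [(S ⋙ R).IsLeftAdjoint] : (Q.ι ⋙ R).IsLeftAdjoint := by
  let S' : A ⥤ Q.FullSubcategory := Q.lift S fun X => (hQ _).1 ⟨X, ⟨Iso.refl _⟩⟩
  have : S'.EssSurj := ⟨fun M => by
    obtain ⟨N, ⟨e⟩⟩ := (hQ M.obj).2 M.property
    exact ⟨N, ⟨Q.isoMk e⟩⟩⟩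
  have : S'.IsEquivalence := {}
  let e : Q.ι ⋙ R ≅ S'.inv ⋙ (S ⋙ R) :=
    (Functor.leftUnitor _).symm ≪≫ Functor.isoWhiskerRight S'.asEquivalence.counitIso.symm _ ≪≫
      Functor.associator _ _ _ ≪≫ Functor.isoWhiskerLeft _ (Iso.refl (S ⋙ R))
  have : (S'.inv ⋙ (S ⋙ R)).IsLeftAdjoint := inferInstance
  exact Functor.isLeftAdjoint_of_iso e.symm

end Groth.Agent.K477.AdjEss
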