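import Groth.Prelude.Def_FSch5
import Groth.Agent.FSch.K178.SpfCompl
import Groth.Agent.Divis.IdealComap
import Groth.Agent.S3873
import Groth.Agent.S0543

/-!
# Completion of a scheme over a Noetherian ring = completion of its base change to the completed ring
-/

set_option autoImplicit false
universe u
open CategoryTheory CategoryTheory.Limits AlgebraicGeometry

namespace Groth.Agent.K477.CompBC

/-- an isomorphism of systems from levelwise isomorphisms -/
noncomputable def isoOfApp {𝔛 𝔜 : FSch.Sys.{u}} (f : 𝔛 ⟶ 𝔜) (hf : ∀ n, IsIso ((f : FSch.Hom 𝔛 𝔜).app n)) : 𝔛 ≅ 𝔜 where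
  hom := f
  inv := ⟨fun n => haveI := hf n; inv ((f : FSch.Hom 𝔛 𝔜).app n), fun n => by
    have := hf n
    have := hf (n + 1)
    rw [IsIso.inv_comp_eq, ← Category.assoc, IsIso.eq_comp_inv]
    exact ((f : FSch.Hom 𝔛 𝔜).comm n).symm⟩
  hom_inv_id := FSch.Hom.ext (funext fun n => by
    have := hf n
    exact IsIso.hom_inv_id ((f : FSch.Hom 𝔛 𝔜).app n))
  inv_hom_id := FSch.Hom.ext (funext fun n => by
    have := hf n
    exact IsIso.inv_hom_id ((f : FSch.Hom 𝔛 𝔜).app n))

section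

variable {B A : Type u} [CommRing B] [CommRing A] (J : Ideal B) (φ : B →+* A)
  {X X' : Scheme.{u}} (f : X ⟶ Spec (CommRingCat.of B)) (f' : X' ⟶ Spec (CommRingCat.of A)) (π : X' ⟶ X)

theorem comap_eq (h : IsPullback π f' f (Spec.map (CommRingCat.ofHom φ))) :
    (FSch.idealSpec A (J.map φ)).comap f' = ((FSch.idealSpec B J).comap f).comap π := by
  rw [← Groth.Agent.S3873.result A B φ J, ← Scheme.IdealSheafData.comap_comp,
    ← Scheme.IdealSheafData.comap_comp, h.w]

/-- the ideal powers -/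
theorem pow_eq (n : ℕ) : ((FSch.idealSpec B J).comap f) ^ n = (FSch.idealSpec B (J ^ n)).comap f := by
  rw [← Groth.Agent.Divis.IdealComap.comap_pow, K178.SpfCompl.idealSpec_pow]

theorem isPullback_spec (n : ℕ) :
    IsPullback (Spec.map (CommRingCat.ofHom (Ideal.Quotient.mk ((J.map φ) ^ n))))
      (Spec.map (CommRingCat.ofHom (Ideal.quotientMap ((J.map φ) ^ n) φ
        (by rw [← Ideal.map_pow]; exact Ideal.le_comap_map))))
      (Spec.map (CommRingCat.ofHom φ)) (Spec.map (CommRingCat.ofHom (Ideal.Quotient.mk (J ^ n)))) := by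
  have h1 : IsClosedImmersion (Spec.map (CommRingCat.ofHom (Ideal.Quotient.mk ((J.map φ) ^ n)))) :=
    IsClosedImmersion.spec_of_surjective _ Ideal.Quotient.mk_surjective
  have h2 : IsClosedImmersion (Spec.map (CommRingCat.ofHom (Ideal.Quotient.mk (J ^ n)))) :=
    IsClosedImmersion.spec_of_surjective _ Ideal.Quotient.mk_surjective
  refine isPullback_of_isClosedImmersion _ _ _ _ ?_ ?_
  · rw [← Spec.map_comp, ← Spec.map_comp, ← CommRingCat.ofHom_comp, ← CommRingCat.ofHom_comp]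
    congr 2
  · have := Groth.Agent.S3873.result A B φ (J ^ n)
    rw [Ideal.map_pow] at this
    exact this

/-- the square of a completion level over the quotient ring -/
theorem exists_isPullback (𝓘 : X.IdealSheafData) (h𝓘 : 𝓘 = (FSch.idealSpec B J).comap f) (n : ℕ) :
    ∃ q : (𝓘 ^ n).subscheme ⟶ Spec (CommRingCat.of (B ⧸ J ^ n)),
      IsPullback (𝓘 ^ n).subschemeι q f (Spec.map (CommRingCat.ofHom (Ideal.Quotient.mk (J ^ n)))) := by
  have h2 : IsClosedImmersion (Spec.map (CommRingCat.ofHom (Ideal.Quotient.mk (J ^ n)))) :=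
    IsClosedImmersion.spec_of_surjective _ Ideal.Quotient.mk_surjective
  let i := Spec.map (CommRingCat.ofHom (Ideal.Quotient.mk (J ^ n)))
  have e : i.ker.comap f = 𝓘 ^ n := by
    rw [h𝓘, pow_eq]
    rfl
  have hle : i.ker ≤ ((𝓘 ^ n).subschemeι ≫ f).ker :=
    Scheme.IdealSheafData.le_map_iff_comap_le.mpr e.le
  refine ⟨IsClosedImmersion.lift i ((𝓘 ^ n).subschemeι ≫ f) hle,
    isPullback_of_isClosedImmersion _ _ _ _ (IsClosedImmersion.lift_fac i _ hle).symm ?_⟩
  rw [Scheme.IdealSheafData.ker_subschemeι]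
  exact e

theorem isIso_subschemeMap (h : IsPullback π f' f (Spec.map (CommRingCat.ofHom φ)))
    (𝓘 : X.IdealSheafData) (h𝓘 : 𝓘 = (FSch.idealSpec B J).comap f)
    (𝓘' : X'.IdealSheafData) (h𝓘' : 𝓘' = (FSch.idealSpec A (J.map φ)).comap f') (n : ℕ)
    (hφ : Function.Bijective (Ideal.quotientMap ((J.map φ) ^ n) φ
        (by rw [← Ideal.map_pow]; exact Ideal.le_comap_map) : B ⧸ J ^ n →+* A ⧸ (J.map φ) ^ n))
    (hle : 𝓘 ^ n ≤ (𝓘' ^ n).map π) :
    IsIso (Scheme.IdealSheafData.subschemeMap (𝓘' ^ n) (𝓘 ^ n) π hle) := by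
  have e : (𝓘 ^ n).comap π = 𝓘' ^ n := by
    rw [Groth.Agent.Divis.IdealComap.comap_pow, h𝓘, h𝓘', comap_eq J φ f f' π h]
  have s1 : IsPullback (𝓘' ^ n).subschemeι (Scheme.IdealSheafData.subschemeMap (𝓘' ^ n) (𝓘 ^ n) π hle)
      π (𝓘 ^ n).subschemeι := by
    refine isPullback_of_isClosedImmersion _ _ _ _ (Scheme.IdealSheafData.subschemeMap_subschemeι _ _ _ _).symm ?_
    rw [Scheme.IdealSheafData.ker_subschemeι, Scheme.IdealSheafData.ker_subschemeι]
    exact e
  obtain ⟨q, hq⟩ := exists_isPullback J f 𝓘 h𝓘 n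
  -- the square over `Spec B / J^n`
  have s2 := s1.paste_horiz h.flip
  have t := isPullback_spec J φ n
  have hw : ((𝓘' ^ n).subschemeι ≫ f') ≫ Spec.map (CommRingCat.ofHom φ) =
      (Scheme.IdealSheafData.subschemeMap (𝓘' ^ n) (𝓘 ^ n) π hle ≫ q) ≫
        Spec.map (CommRingCat.ofHom (Ideal.Quotient.mk (J ^ n))) := by
    rw [s2.w, Category.assoc, hq.w]
  have s3 : IsPullback (t.lift _ _ hw ≫ Spec.map (CommRingCat.ofHom (Ideal.Quotient.mk ((J.map φ) ^ n))))
      (Scheme.IdealSheafData.subschemeMap (𝓘' ^ n) (𝓘 ^ n) π hle) (Spec.map (CommRingCat.ofHom φ))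
      (q ≫ Spec.map (CommRingCat.ofHom (Ideal.Quotient.mk (J ^ n)))) := by
    rw [t.lift_fst, ← hq.w]
    exact s2
  have s4 := s3.of_right (t.lift_snd _ _ hw) t
  have hiso : IsIso (Spec.map (CommRingCat.ofHom (Ideal.quotientMap ((J.map φ) ^ n) φ
        (by rw [← Ideal.map_pow]; exact Ideal.le_comap_map) : B ⧸ J ^ n →+* A ⧸ (J.map φ) ^ n))) := by
    have : IsIso (CommRingCat.ofHom (Ideal.quotientMap ((J.map φ) ^ n) φ
        (by rw [← Ideal.map_pow]; exact Ideal.le_comap_map) : B ⧸ J ^ n →+* A ⧸ (J.map φ) ^ n)) :=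
      (ConcreteCategory.isIso_iff_bijective _).2 hφ
    infer_instance
  exact s4.isIso_snd_of_isIso

theorem mem_map_pow_iff (I : Ideal B) (hI : I.FG) (n : ℕ) (s : AdicCompletion I B) :
    s ∈ (I.map (algebraMap B (AdicCompletion I B))) ^ n ↔ AdicCompletion.eval I B n s = 0 := by
  have h3 : s ∈ LinearMap.ker (AdicCompletion.eval I B n) ↔ AdicCompletion.eval I B n s = 0 := LinearMap.mem_ker
  rw [← h3, ← AdicCompletion.pow_smul_top_eq_ker_eval hI, Ideal.smul_top_eq_map, Ideal.map_pow]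
  exact Iff.rfl

theorem bijective_quotientMap (I : Ideal B) (hI : I.FG) (n : ℕ) :
    Function.Bijective (Ideal.quotientMap ((I.map (algebraMap B (AdicCompletion I B))) ^ n)
      (algebraMap B (AdicCompletion I B)) (by rw [← Ideal.map_pow]; exact Ideal.le_comap_map) :
        B ⧸ I ^ n →+* AdicCompletion I B ⧸ (I.map (algebraMap B (AdicCompletion I B))) ^ n) := by
  constructor
  · rw [injective_iff_map_eq_zero]
    intro a ha
    obtain ⟨a, rfl⟩ := Ideal.Quotient.mk_surjective a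
    rw [Ideal.quotientMap_mk, Ideal.Quotient.eq_zero_iff_mem, mem_map_pow_iff I hI] at ha
    rw [Ideal.Quotient.eq_zero_iff_mem]
    have h2 : (Submodule.mkQ (I ^ n • ⊤ : Submodule B B)) a = 0 := ha
    rw [Submodule.mkQ_apply, Submodule.Quotient.mk_eq_zero] at h2
    simpa using h2
  · intro s
    obtain ⟨s, rfl⟩ := Ideal.Quotient.mk_surjective s
    obtain ⟨a, ha⟩ := Submodule.mkQ_surjective _ (AdicCompletion.eval I B n s)
    refine ⟨Ideal.Quotient.mk _ a, ?_⟩
    rw [Ideal.quotientMap_mk, Ideal.Quotient.eq, mem_map_pow_iff I hI, map_sub, ← ha, sub_eq_zero]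
    rfl

end

/-- The completion of a proper scheme over a Noetherian ring is the completion of a proper scheme over a
complete Noetherian ring. -/
theorem exists_complete (B : Type u) [CommRing B] [IsNoetherianRing B] (J : Ideal B)
    {X : Scheme.{u}} (f : X ⟶ Spec (CommRingCat.of B)) [IsProper f]
    (𝓘 : X.IdealSheafData) (h𝓘 : 𝓘 = (FSch.idealSpec B J).comap f) :
    ∃ (A : Type u) (_ : CommRing A) (_ : IsNoetherianRing A) (I : Ideal A) (_ : IsAdicComplete I A)
      (X' : Scheme.{u}) (f' : X' ⟶ Spec (CommRingCat.of A)) (_ : IsProper f')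
      (𝓘' : X'.IdealSheafData) (_ : 𝓘' = (FSch.idealSpec A I).comap f'),
      Nonempty (FSch.completionAlong X' 𝓘' ≅ FSch.completionAlong X 𝓘) := by
  have hfg : J.FG := IsNoetherian.noetherian J
  let φ : B →+* AdicCompletion J B := algebraMap B (AdicCompletion J B)
  have hN : IsNoetherianRing (AdicCompletion J B) := Groth.Agent.S0543.result B J
  have hcp : IsAdicComplete (J.map φ) (AdicCompletion J B) := AdicCompletion.isAdicComplete_self J hfg
  have h := IsPullback.of_hasPullback f (Spec.map (CommRingCat.ofHom φ))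
  let 𝓘' := (FSch.idealSpec (AdicCompletion J B) (J.map φ)).comap (pullback.snd f (Spec.map (CommRingCat.ofHom φ)))
  have hc : ∀ n, (𝓘 ^ n).comap (pullback.fst f (Spec.map (CommRingCat.ofHom φ))) = 𝓘' ^ n := by
    intro n
    rw [Groth.Agent.Divis.IdealComap.comap_pow, h𝓘]
    congr 1
    exact (comap_eq J φ f _ _ h).symm
  let e : FSch.completionAlong _ 𝓘' ⟶ FSch.completionAlong X 𝓘 :=
    FSch.completionMap (pullback.fst f (Spec.map (CommRingCat.ofHom φ))) 𝓘' 𝓘 fun n => (hc (n + 1)).le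
  refine ⟨AdicCompletion J B, inferInstance, hN, J.map φ, hcp, _, pullback.snd _ _, inferInstance, 𝓘',
    rfl, ⟨isoOfApp e fun n => ?_⟩⟩
  exact isIso_subschemeMap J φ f _ _ h 𝓘 h𝓘 𝓘' rfl (n + 1) (bijective_quotientMap J hfg (n + 1))
    (Scheme.IdealSheafData.le_map_iff_comap_le.mpr (hc (n + 1)).le)

end Groth.Agent.K477.CompBC
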