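import Groth.Agent.Fdesc.SubDer
import Groth.Agent.Dcoh.MapDer
import Mathlib.Algebra.Homology.DerivedCategory.FullyFaithful

/-!
# `D(P) ⥤ D(C)` for a full abelian subcategory which is the essential image of an exact functor `F : Q ⥤ C` inducing
a fully faithful functor on derived categories
-/

set_option autoImplicit false
set_option linter.unusedSectionVars false

universe w₁ w₂ w₃ v₁ v₂ v₃ u₁ u₂ u₃

open CategoryTheory Category Limits DerivedCategory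

namespace Groth.Agent.K477.DerEqv

section

variable {𝒬 : Type u₁} [Category.{v₁} 𝒬] [Abelian 𝒬] [HasDerivedCategory.{w₁} 𝒬]
  {𝒞 : Type u₂} [Category.{v₂} 𝒞] [Abelian 𝒞] [HasDerivedCategory.{w₂} 𝒞]
  (F : 𝒬 ⥤ 𝒞) [F.Additive] [PreservesFiniteLimits F] [PreservesFiniteColimits F]

theorem faithful_of_mapDer [F.mapDerivedCategory.Faithful] : F.Faithful := by
  have h1 : (F ⋙ singleFunctor 𝒞 0).Faithful :=
    Functor.Faithful.of_iso (F.mapDerivedCategorySingleFunctor 0)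
  exact Functor.Faithful.of_comp F (singleFunctor 𝒞 0)

theorem full_of_mapDer [F.mapDerivedCategory.Full] : F.Full := by
  have h1 : (F ⋙ singleFunctor 𝒞 0).Full :=
    Functor.Full.of_iso (F.mapDerivedCategorySingleFunctor 0)
  exact Functor.Full.of_comp_faithful F (singleFunctor 𝒞 0)

theorem reflects_zero [F.Faithful] (M : 𝒬) (h : IsZero (F.obj M)) : IsZero M := by
  rw [IsZero.iff_id_eq_zero] at h ⊢
  apply F.map_injective
  rw [F.map_id, F.map_zero, h]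

/-- Homology of `M[0]` -/
noncomputable def hSingle (M : 𝒞) : (homologyFunctor 𝒞 0).obj ((singleFunctor 𝒞 0).obj M) ≅ M :=
  (singleFunctorCompHomologyFunctorIso 𝒞 0).app M

theorem isZero_hSingle (M : 𝒞) (i : ℤ) (hi : i ≠ 0) :
    IsZero ((homologyFunctor 𝒞 i).obj ((singleFunctor 𝒞 0).obj M)) := by
  rcases lt_or_gt_of_ne hi with h | h
  · exact isZero_of_isGE _ 0 i h
  · exact isZero_of_isLE _ 0 i h

variable (P : ObjectProperty 𝒞) [P.IsClosedUnderIsomorphisms] [P.ContainsZero]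

theorem prop_single {M : 𝒞} (hM : P M) (i : ℤ) : P ((homologyFunctor 𝒞 i).obj ((singleFunctor 𝒞 0).obj M)) := by
  by_cases hi : i = 0
  · subst hi
    exact P.prop_of_iso (hSingle M).symm hM
  · obtain ⟨Z, hZ, h⟩ := P.exists_prop_of_containsZero
    exact P.prop_of_iso (hZ.iso (isZero_hSingle M i hi)) h

variable (hP : ∀ G : DerivedCategory 𝒞, F.mapDerivedCategory.essImage G ↔ ∀ i : ℤ, P ((homologyFunctor 𝒞 i).obj G))

include hP in
theorem prop_map (M : 𝒬) : P (F.obj M) := by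
  have h1 := (hP ((singleFunctor 𝒞 0).obj (F.obj M))).1
    ⟨_, ⟨(F.mapDerivedCategorySingleFunctor 0).app M⟩⟩ 0
  exact P.prop_of_iso (hSingle _) h1

include hP in
theorem ess_of_prop [F.mapDerivedCategory.Faithful] {M : 𝒞} (hM : P M) : F.essImage M := by
  have := faithful_of_mapDer F
  obtain ⟨K, ⟨e⟩⟩ := (hP ((singleFunctor 𝒞 0).obj M)).2 (prop_single P hM)
  refine ⟨(homologyFunctor 𝒬 0).obj K, ⟨?_⟩⟩
  exact ((Groth.Agent.PerfA.ExactD.mapHomology F 0).app K).symm ≪≫ (homologyFunctor 𝒞 0).mapIso e ≪≫ hSingle M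

end

section

variable {𝒬 : Type u₁} [Category.{v₁} 𝒬] [Abelian 𝒬] [HasDerivedCategory.{w₁} 𝒬]
  {𝒞 : Type u₂} [Category.{v₂} 𝒞] [Abelian 𝒞] [HasDerivedCategory.{w₂} 𝒞]
  (F : 𝒬 ⥤ 𝒞) [F.Additive] [PreservesFiniteLimits F] [PreservesFiniteColimits F]
  (P : ObjectProperty 𝒞) [P.IsClosedUnderIsomorphisms] [P.ContainsZero] [P.IsClosedUnderKernels]
  [P.IsClosedUnderCokernels] [P.IsClosedUnderFiniteProducts] [HasDerivedCategory.{w₃} P.FullSubcategory]
  [PreservesFiniteLimits P.ι] [PreservesFiniteColimits P.ι]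

/-- The derived category of a full abelian subcategory `P ⊆ 𝒞` which is the essential image of an exact functor
`F : 𝒬 ⥤ 𝒞` inducing `D(𝒬) ≌ D_P(𝒞)`. -/
theorem main [F.mapDerivedCategory.Full] [F.mapDerivedCategory.Faithful]
    (hP : ∀ G : DerivedCategory 𝒞, F.mapDerivedCategory.essImage G ↔
      ∀ i : ℤ, P ((homologyFunctor 𝒞 i).obj G)) :
    P.ι.mapDerivedCategory.Full ∧ P.ι.mapDerivedCategory.Faithful ∧
      ∀ G : DerivedCategory 𝒞, P.ι.mapDerivedCategory.essImage G ↔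
        ∀ i : ℤ, P ((homologyFunctor 𝒞 i).obj G) := by
  let F' : 𝒬 ⥤ P.FullSubcategory := P.lift F (prop_map F P hP)
  have : F.Faithful := faithful_of_mapDer F
  have : F.Full := full_of_mapDer F
  have : F'.EssSurj := ⟨fun M => by
    obtain ⟨N, ⟨e⟩⟩ := ess_of_prop F P hP M.property
    exact ⟨N, ⟨P.isoMk e⟩⟩⟩
  have : F'.IsEquivalence := {}
  have : F'.Additive := Functor.additive_of_preserves_binary_products _
  let e : F'.mapDerivedCategory ⋙ P.ι.mapDerivedCategory ≅ F.mapDerivedCategory :=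
    Groth.Agent.Dcoh.MapDer.mapDerCompIso (P.liftCompιIso F (prop_map F P hP))
  have : F'.mapDerivedCategory.IsEquivalence := Groth.Agent.Fdesc.SubDer.isEquivalence_mapDerivedCategory F'
  let e' : P.ι.mapDerivedCategory ≅ F'.mapDerivedCategory.inv ⋙ F.mapDerivedCategory :=
    (Functor.leftUnitor _).symm ≪≫ Functor.isoWhiskerRight F'.mapDerivedCategory.asEquivalence.counitIso.symm _ ≪≫
      Functor.associator _ _ _ ≪≫ Functor.isoWhiskerLeft _ e
  refine ⟨Functor.Full.of_iso e'.symm, Functor.Faithful.of_iso e'.symm, fun G => ?_⟩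
  rw [← hP G]
  constructor
  · rintro ⟨K, ⟨a⟩⟩
    exact ⟨_, ⟨(e'.app K).symm ≪≫ a⟩⟩
  · rintro ⟨K, ⟨a⟩⟩
    exact ⟨_, ⟨e.app K ≪≫ a⟩⟩

end

section

universe w₄ v₄ u₄ w₅

variable {𝒬 : Type u₁} [Category.{v₁} 𝒬] [Abelian 𝒬] [HasDerivedCategory.{w₁} 𝒬]
  {𝒟 : Type u₃} [Category.{v₃} 𝒟] [Abelian 𝒟] [HasDerivedCategory.{w₃} 𝒟]
  {𝒞' : Type u₄} [Category.{v₄} 𝒞'] [Abelian 𝒞'] [HasDerivedCategory.{w₄} 𝒞']
  {𝒞 : Type u₂} [Category.{v₂} 𝒞] [Abelian 𝒞] [HasDerivedCategory.{w₂} 𝒞]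
  (T : 𝒬 ⥤ 𝒟) [T.Additive] [PreservesFiniteLimits T] [PreservesFiniteColimits T]
  (L : 𝒟 ⥤ 𝒞') [L.Additive] [PreservesFiniteLimits L] [PreservesFiniteColimits L]
  (Φ : 𝒞' ⥤ 𝒞) [Φ.Additive] [PreservesFiniteLimits Φ] [PreservesFiniteColimits Φ]
  (P : ObjectProperty 𝒞) [P.IsClosedUnderIsomorphisms] [P.ContainsZero] [P.IsClosedUnderKernels]
  [P.IsClosedUnderCokernels] [P.IsClosedUnderFiniteProducts] [HasDerivedCategory.{w₅} P.FullSubcategory]
  [PreservesFiniteLimits P.ι] [PreservesFiniteColimits P.ι]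

theorem main2 [Φ.IsEquivalence] [T.mapDerivedCategory.Full] [T.mapDerivedCategory.Faithful]
    (hL : ∀ K K' : DerivedCategory 𝒬, Function.Bijective
      (fun φ : T.mapDerivedCategory.obj K ⟶ T.mapDerivedCategory.obj K' => L.mapDerivedCategory.map φ))
    (hess : ∀ G : DerivedCategory 𝒞', (∀ i : ℤ, P (Φ.obj ((homologyFunctor 𝒞' i).obj G))) ↔
      ∃ K : DerivedCategory 𝒬, Nonempty (L.mapDerivedCategory.obj (T.mapDerivedCategory.obj K) ≅ G)) :
    P.ι.mapDerivedCategory.Full ∧ P.ι.mapDerivedCategory.Faithful ∧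
      ∀ G : DerivedCategory 𝒞, P.ι.mapDerivedCategory.essImage G ↔
        ∀ i : ℤ, P ((homologyFunctor 𝒞 i).obj G) := by
  have i1 : (L ⋙ Φ).Additive := inferInstance
  have i2 : (T ⋙ L ⋙ Φ).Additive := inferInstance
  have i3 : PreservesFiniteLimits (L ⋙ Φ) := comp_preservesFiniteLimits _ _
  have i4 : PreservesFiniteLimits (T ⋙ L ⋙ Φ) := comp_preservesFiniteLimits _ _
  have i5 : PreservesFiniteColimits (L ⋙ Φ) := comp_preservesFiniteColimits _ _
  have i6 : PreservesFiniteColimits (T ⋙ L ⋙ Φ) := comp_preservesFiniteColimits _ _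
  let e : T.mapDerivedCategory ⋙ L.mapDerivedCategory ⋙ Φ.mapDerivedCategory ≅
      (T ⋙ L ⋙ Φ).mapDerivedCategory :=
    Functor.isoWhiskerLeft _ (Groth.Agent.Dcoh.MapDer.mapDerComp L Φ) ≪≫
      Groth.Agent.Dcoh.MapDer.mapDerComp T (L ⋙ Φ)
  have i7 : Φ.mapDerivedCategory.IsEquivalence := Groth.Agent.Fdesc.SubDer.isEquivalence_mapDerivedCategory Φ
  have f1 : (T.mapDerivedCategory ⋙ L.mapDerivedCategory).Full := ⟨fun {K K'} φ => by
    obtain ⟨ψ, hψ⟩ := (hL K K').2 φ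
    obtain ⟨ψ', rfl⟩ := T.mapDerivedCategory.map_surjective ψ
    exact ⟨ψ', hψ⟩⟩
  have f2 : (T.mapDerivedCategory ⋙ L.mapDerivedCategory).Faithful := ⟨fun {K K'} a b h =>
    T.mapDerivedCategory.map_injective ((hL K K').1 h)⟩
  have f3 : (T.mapDerivedCategory ⋙ L.mapDerivedCategory ⋙ Φ.mapDerivedCategory).Full :=
    inferInstanceAs ((T.mapDerivedCategory ⋙ L.mapDerivedCategory) ⋙ Φ.mapDerivedCategory).Full
  have f4 : (T.mapDerivedCategory ⋙ L.mapDerivedCategory ⋙ Φ.mapDerivedCategory).Faithful :=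
    inferInstanceAs ((T.mapDerivedCategory ⋙ L.mapDerivedCategory) ⋙ Φ.mapDerivedCategory).Faithful
  have f5 : (T ⋙ L ⋙ Φ).mapDerivedCategory.Full := Functor.Full.of_iso e
  have f6 : (T ⋙ L ⋙ Φ).mapDerivedCategory.Faithful := Functor.Faithful.of_iso e
  refine main (T ⋙ L ⋙ Φ) P fun G => ?_
  have hG : (∀ i : ℤ, P ((homologyFunctor 𝒞 i).obj G)) ↔
      ∀ i : ℤ, P (Φ.obj ((homologyFunctor 𝒞' i).obj (Φ.mapDerivedCategory.objPreimage G))) := by
    refine forall_congr' fun i => ?_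
    exact P.prop_iff_of_iso ((homologyFunctor 𝒞 i).mapIso (Φ.mapDerivedCategory.objObjPreimageIso G).symm ≪≫
      (Groth.Agent.PerfA.ExactD.mapHomology Φ i).app _)
  rw [hG, hess]
  constructor
  · rintro ⟨K, ⟨a⟩⟩
    exact ⟨K, ⟨Φ.mapDerivedCategory.preimageIso (e.app K ≪≫ a ≪≫ (Φ.mapDerivedCategory.objObjPreimageIso G).symm)⟩⟩
  · rintro ⟨K, ⟨a⟩⟩
    exact ⟨K, ⟨(e.app K).symm ≪≫ Φ.mapDerivedCategory.mapIso a ≪≫ Φ.mapDerivedCategory.objObjPreimageIso G⟩⟩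

end

end Groth.Agent.K477.DerEqv
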