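import Groth.Agent.FBlow.K788.SysB
import Groth.Agent.FBlow.K788.IdMap
import Groth.Agent.ModSite.K295.PullQc
import Mathlib.CategoryTheory.ObjectProperty.Ind

/-!
# An isomorphism of formal systems induces an equivalence of module categories
-/

set_option autoImplicit false
universe u
open CategoryTheory CategoryTheory.Limits AlgebraicGeometry TopologicalSpace Opposite

namespace Groth.Agent.K477.SysIso

open FSch K788.Osh K788.SysB K788.IdMap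

variable {𝔛 𝔜 : FSch.Sys.{u}} (e : 𝔛 ≅ 𝔜) (h𝔛 : 𝔛.IsFormal) (h𝔜 : 𝔜.IsFormal)

theorem sh_of_eq_id (f : 𝔛 ⟶ 𝔛) (hf : f = 𝟙 𝔛) (U : (𝔛.X 0).Opens) (i : pre f U ≤ U) (s : Sec 𝔛 h𝔛 U) :
    sh h𝔛 f h𝔛 U s = res 𝔛 h𝔛 i s := by
  subst hf
  rw [sh_id]
  exact (res_self h𝔛 i s).symm

/-- the homeomorphism of the common spaces -/
noncomputable def topIso : (𝔛.X 0).carrier ≅ (𝔜.X 0).carrier where
  hom := ((e.hom : FSch.Hom 𝔛 𝔜).app 0).base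
  inv := ((e.inv : FSch.Hom 𝔜 𝔛).app 0).base
  hom_inv_id := by
    rw [← Scheme.Hom.comp_base]
    have := congrArg (fun t : FSch.Hom 𝔛 𝔛 => (t.app 0).base) e.hom_inv_id
    exact this
  inv_hom_id := by
    rw [← Scheme.Hom.comp_base]
    have := congrArg (fun t : FSch.Hom 𝔜 𝔜 => (t.app 0).base) e.inv_hom_id
    exact this

/-- the equivalence of opens -/
noncomputable def opEqv : Opens (𝔜.X 0).carrier ≌ Opens (𝔛.X 0).carrier := Opens.mapMapIso (topIso e)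

instance cont1 : (opEqv e).functor.IsContinuous (Opens.grothendieckTopology (𝔜.X 0).carrier)
    (Opens.grothendieckTopology (𝔛.X 0).carrier) :=
  inferInstanceAs ((Opens.map ((e.hom : FSch.Hom 𝔛 𝔜).app 0).base).IsContinuous
    (Opens.grothendieckTopology (𝔜.X 0).carrier) (Opens.grothendieckTopology (𝔛.X 0).carrier))

instance cont2 : (opEqv e).inverse.IsContinuous (Opens.grothendieckTopology (𝔛.X 0).carrier)
    (Opens.grothendieckTopology (𝔜.X 0).carrier) :=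
  inferInstanceAs ((Opens.map ((e.inv : FSch.Hom 𝔜 𝔛).app 0).base).IsContinuous
    (Opens.grothendieckTopology (𝔛.X 0).carrier) (Opens.grothendieckTopology (𝔜.X 0).carrier))

theorem h1 (U : (𝔛.X 0).Opens) (s : Sec 𝔛 h𝔛 U) (i : pre e.hom (pre e.inv U) ≤ U) :
    res 𝔛 h𝔛 i s = sh h𝔛 e.hom h𝔜 (pre e.inv U) (sh h𝔜 e.inv h𝔛 U s) := by
  rw [← sh_comp h𝔛 h𝔜 h𝔛 e.hom e.inv U s]
  exact (sh_of_eq_id h𝔛 (e.hom ≫ e.inv) e.hom_inv_id U i s).symm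

theorem h2 (U : (𝔜.X 0).Opens) (s : Sec 𝔜 h𝔜 U) (i : U ≤ pre e.inv (pre e.hom U)) :
    res 𝔜 h𝔜 i (sh h𝔜 e.inv h𝔛 (pre e.hom U) (sh h𝔛 e.hom h𝔜 U s)) = s := by
  have hle : pre e.inv (pre e.hom U) ≤ U := by
    have : pre (e.inv ≫ e.hom) U ≤ U := by
      rw [e.inv_hom_id]
      exact le_rfl
    exact this
  have key : res 𝔜 h𝔜 hle s = sh h𝔜 e.inv h𝔛 (pre e.hom U) (sh h𝔛 e.hom h𝔜 U s) := h1 e.symm h𝔜 h𝔛 U s hle
  rw [← key, res_res, res_self]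

/-- the equivalence `ModF 𝔛 ≌ ModF 𝔜`, whose functor is `pushF e.hom` and whose inverse is `pushF e.inv`. -/
noncomputable def modEqv : ModF 𝔛 h𝔛 ≌ ModF 𝔜 h𝔜 :=
  SheafOfModules.pushforwardPushforwardEquivalence (opEqv e)
    (homMor e.hom h𝔛 h𝔜).sharpR (homMor e.inv h𝔜 h𝔛).sharpR
    (by
      ext U s
      exact h1 e h𝔛 h𝔜 U.unop s _)
    (by
      ext U s
      exact h2 e h𝔛 h𝔜 U.unop s _)

theorem modEqv_functor : (modEqv e h𝔛 h𝔜).functor = (homMor e.hom h𝔛 h𝔜).push := rfl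

theorem modEqv_inverse : (modEqv e h𝔛 h𝔜).inverse = (homMor e.inv h𝔜 h𝔛).push := rfl

instance isEquivalence_push : (homMor e.hom h𝔛 h𝔜).push.IsEquivalence :=
  inferInstanceAs (modEqv e h𝔛 h𝔜).functor.IsEquivalence

/-- inverse image = direct image by the inverse -/
noncomputable def pullIso : (homMor e.hom h𝔛 h𝔜).pull ≅ (homMor e.inv h𝔜 h𝔛).push :=
  Adjunction.leftAdjointUniq (homMor e.hom h𝔛 h𝔜).adj (modEqv e h𝔛 h𝔜).symm.toAdjunction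

theorem isCohF_of_iso (h : 𝔛.IsFormal) {𝔉 𝔊 : FSch.ModF 𝔛 h} (e : 𝔉 ≅ 𝔊)
    (h𝔉 : FSch.IsCohF 𝔛 h 𝔉) : FSch.IsCohF 𝔛 h 𝔊 :=
  (SheafOfModules.isFinitePresentation.{u} (ModSite.ringSh (𝔛.Osh h))).prop_of_iso e h𝔉

theorem isCohF_push_inv {F : ModF 𝔜 h𝔜} (hF : IsCohF 𝔜 h𝔜 F) : IsCohF 𝔛 h𝔛 ((homMor e.inv h𝔜 h𝔛).push.obj F) :=
  isCohF_of_iso h𝔛 ((pullIso e h𝔛 h𝔜).app F) (K295.PullQc.isFinitePresentation_pull (homMor e.hom h𝔛 h𝔜) F hF)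

theorem isCohF_push {F : ModF 𝔛 h𝔛} (hF : IsCohF 𝔛 h𝔛 F) : IsCohF 𝔜 h𝔜 ((homMor e.hom h𝔛 h𝔜).push.obj F) :=
  isCohF_push_inv e.symm h𝔜 h𝔛 hF

theorem isCohF_push_iff (F : ModF 𝔛 h𝔛) : IsCohF 𝔜 h𝔜 ((homMor e.hom h𝔛 h𝔜).push.obj F) ↔ IsCohF 𝔛 h𝔛 F := by
  refine ⟨fun h => ?_, isCohF_push e h𝔛 h𝔜⟩
  exact isCohF_of_iso h𝔛 ((modEqv e h𝔛 h𝔜).unitIso.app F).symm (isCohF_push_inv e h𝔛 h𝔜 h)

/-- ind-coherence and isomorphisms of systems -/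
theorem ind_push {F : ModF 𝔛 h𝔛} (hF : ObjectProperty.ind.{u} (fun G : ModF 𝔛 h𝔛 => IsCohF 𝔛 h𝔛 G) F) :
    ObjectProperty.ind.{u} (fun G : ModF 𝔜 h𝔜 => IsCohF 𝔜 h𝔜 G) ((homMor e.hom h𝔛 h𝔜).push.obj F) := by
  obtain ⟨J, i1, i2, ⟨D, c, hc⟩, hD⟩ := hF
  exact ⟨J, i1, i2, ⟨D ⋙ (homMor e.hom h𝔛 h𝔜).push, _,
    isColimitOfPreserves (homMor e.hom h𝔛 h𝔜).push hc⟩, fun j => isCohF_push e h𝔛 h𝔜 (hD j)⟩

instance ind_closedUnderIso (h : 𝔛.IsFormal) :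
    (ObjectProperty.ind.{u} (fun G : ModF 𝔛 h => IsCohF 𝔛 h G)).IsClosedUnderIsomorphisms := inferInstance

theorem ind_push_iff (F : ModF 𝔛 h𝔛) :
    ObjectProperty.ind.{u} (fun G : ModF 𝔜 h𝔜 => IsCohF 𝔜 h𝔜 G) ((homMor e.hom h𝔛 h𝔜).push.obj F) ↔
    ObjectProperty.ind.{u} (fun G : ModF 𝔛 h𝔛 => IsCohF 𝔛 h𝔛 G) F := by
  refine ⟨fun h => ?_, ind_push e h𝔛 h𝔜⟩
  exact ObjectProperty.prop_of_iso _ ((modEqv e h𝔛 h𝔜).unitIso.app F).symm (ind_push e.symm h𝔜 h𝔛 h)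

end Groth.Agent.K477.SysIso
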