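import Groth.Agent.FSch.K477.CompBC
import Groth.Agent.FSch.K477.SysIso
import Groth.Agent.FSch.K477.DerEqv
import Groth.Agent.FSch.K182.SchLoc
import Groth.Agent.FTors.K920.KapFlat
import Groth.Agent.S1104
import Groth.Agent.S3854

/-!
# `D(A) ≌ D_A(O_𝔛)` for `A` the ind-coherent modules on a properly algebraic formal scheme
-/

set_option autoImplicit false
universe u
open CategoryTheory CategoryTheory.Limits AlgebraicGeometry
attribute [local instance] HasDerivedCategory.standard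
open FSch

namespace Groth.Agent.K477.Main47

open K920.KapSch K182.SchCart K182.SchLoc

/-- The class of ind-coherent modules. -/
abbrev IC (𝔛 : FSch.Sys.{u}) (h : 𝔛.IsFormal) : ObjectProperty (ModF 𝔛 h) :=
  ObjectProperty.ind.{u} fun 𝔊 : FSch.ModF 𝔛 h => FSch.IsCohF 𝔛 h 𝔊

/-- The statement for the completion `𝔛'` of `X'`, transported to an isomorphic system `𝔛`. -/
theorem transport {X' : Scheme.{u}} [IsNoetherian X'] (𝓘' : X'.IdealSheafData)
    (hX' : (completionAlong X' 𝓘').IsFormal) [PreservesFiniteLimits (kap X' 𝓘' hX').pull]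
    (hff : ∀ E E' : DerivedCategory (ModSite.Mod X'.sheaf),
      (∀ i : ℤ, SheafOfModules.IsQuasicoherent.{u} (SiteCmp.HMod E i)) →
      (∀ i : ℤ, SheafOfModules.IsQuasicoherent.{u} (SiteCmp.HMod E' i)) →
      Function.Bijective (fun φ : E ⟶ E' => (SiteCmp.pullD (kap X' 𝓘' hX')).map φ))
    (hess : ∀ G : DerivedCategory (FSch.ModF (FSch.completionAlong X' 𝓘') hX'),
      (∀ i : ℤ, IC _ hX' (SiteCmp.HMod G i)) ↔
        ∃ E : DerivedCategory (ModSite.Mod X'.sheaf),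
          (∀ i : ℤ, SheafOfModules.IsQuasicoherent.{u} (SiteCmp.HMod E i)) ∧
          Nonempty ((SiteCmp.pullD (kap X' 𝓘' hX')).obj E ≅ G))
    {𝔛 : FSch.Sys.{u}} (h : 𝔛.IsFormal) (e : completionAlong X' 𝓘' ≅ 𝔛)
    [(IC 𝔛 h).ContainsZero] [(IC 𝔛 h).IsClosedUnderKernels]
    [(IC 𝔛 h).IsClosedUnderCokernels] [(IC 𝔛 h).IsClosedUnderFiniteProducts]
    [PreservesFiniteLimits (IC 𝔛 h).ι] [PreservesFiniteColimits (IC 𝔛 h).ι] :
    (IC 𝔛 h).ι.mapDerivedCategory.Full ∧ (IC 𝔛 h).ι.mapDerivedCategory.Faithful ∧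
      ∀ G : DerivedCategory (FSch.ModF 𝔛 h), (IC 𝔛 h).ι.mapDerivedCategory.essImage G ↔
        ∀ i : ℤ, IC 𝔛 h (SiteCmp.HMod G i) := by
  have i1 : ObjectProperty.ContainsZero (fun M : X'.Modules => Coh.IsQCoh M) :=
    (inferInstance : (qc X').ContainsZero)
  have i2 : ObjectProperty.IsClosedUnderKernels (fun M : X'.Modules => Coh.IsQCoh M) :=
    (inferInstance : (qc X').IsClosedUnderKernels)
  have i3 : ObjectProperty.IsClosedUnderCokernels (fun M : X'.Modules => Coh.IsQCoh M) :=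
    (inferInstance : (qc X').IsClosedUnderCokernels)
  have i4 : ObjectProperty.IsClosedUnderFiniteProducts (fun M : X'.Modules => Coh.IsQCoh M) :=
    (inferInstance : (qc X').IsClosedUnderFiniteProducts)
  have i5 : PreservesFiniteLimits (ObjectProperty.ι (fun M : X'.Modules => Coh.IsQCoh M)) :=
    (inferInstance : PreservesFiniteLimits (qc X').ι)
  have i6 : PreservesFiniteColimits (ObjectProperty.ι (fun M : X'.Modules => Coh.IsQCoh M)) :=
    (inferInstance : PreservesFiniteColimits (qc X').ι)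
  obtain ⟨q1, q2, q3⟩ := Groth.Agent.S1104.result X'
  have hE : (homMor e.hom hX' h).push.IsEquivalence := SysIso.isEquivalence_push e hX' h
  have hA : (homMor e.hom hX' h).push.Additive := Functor.additive_of_preserves_binary_products _
  have hA2 : (kap X' 𝓘' hX').pull.Additive := SiteCmp.additive_pull (kap X' 𝓘' hX')
  have hA3 : PreservesFiniteColimits (kap X' 𝓘' hX').pull := SiteCmp.preservesFiniteColimits_pull (kap X' 𝓘' hX')
  have q1' : (qc X').ι.mapDerivedCategory.Full := q1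
  have q2' : (qc X').ι.mapDerivedCategory.Faithful := q2
  refine DerEqv.main2 (qc X').ι (kap X' 𝓘' hX').pull
    (homMor e.hom hX' h).push (IC 𝔛 h) ?_ ?_
  · intro K K'
    exact hff _ _ (fun i => (q3 _).2 ⟨K, ⟨Iso.refl _⟩⟩ i) (fun i => (q3 _).2 ⟨K', ⟨Iso.refl _⟩⟩ i)
  · intro G
    have h1 : (∀ i : ℤ, IC 𝔛 h ((homMor e.hom hX' h).push.obj (SiteCmp.HMod G i))) ↔
        (∀ i : ℤ, IC _ hX' (SiteCmp.HMod G i)) := forall_congr' fun i => SysIso.ind_push_iff e hX' h _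
    refine h1.trans ((hess G).trans ⟨?_, ?_⟩)
    · rintro ⟨E, hE, ⟨a⟩⟩
      obtain ⟨K, ⟨b⟩⟩ := (q3 E).1 hE
      exact ⟨K, ⟨(SiteCmp.pullD (kap X' 𝓘' hX')).mapIso b ≪≫ a⟩⟩
    · rintro ⟨K, ⟨a⟩⟩
      exact ⟨_, fun i => (q3 _).2 ⟨K, ⟨Iso.refl _⟩⟩ i, ⟨a⟩⟩

end Groth.Agent.K477.Main47
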